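import Groth.Agent.Lib.K0Sub.RankNilp
import Groth.Agent.Lib.QCoh.DevissageSummands
import Groth.Agent.Lib.OX.Tensor
import Groth.Agent.Lib.Euler.TensorSupport

/-! # Tensoring by a bundle on the graded pieces of `K₀` of coherent modules -/

set_option autoImplicit false
set_option linter.style.haveILetI false
universe u

open CategoryTheory CategoryTheory.Limits AlgebraicGeometry TopologicalSpace

namespace GrothLib.K0Rank22

variable {X : Scheme.{u}}

/-- A closed subset of the closure of a point avoiding the point has smaller dimension. -/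
theorem dim_lt_of_subset_closure {x : X} {C : Set X} (hC : IsClosed C) (hsub : C ⊆ closure {x}) (hx : x ∉ C)
    (r : ℕ) (hr : topologicalKrullDim ↥(closure ({x} : Set X)) ≤ r) : topologicalKrullDim ↥C < r := by
  by_contra hlt
  obtain ⟨l, hl⟩ := Order.le_krullDim_iff.mp (not_lt.mp hlt)
  let g : C → closure ({x} : Set X) := Set.inclusion hsub
  have hg : Topology.IsInducing g := (Topology.IsEmbedding.inclusion hsub).isInducing
  have hirr : IrreducibleSpace ↥(closure ({x} : Set X)) :=
    isIrreducible_iff_irreducibleSpace.mp isIrreducible_singleton.closure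
  let top : IrreducibleCloseds ↥(closure ({x} : Set X)) :=
    { carrier := Set.univ
      isIrreducible' := (irreducibleSpace_def _).mp hirr
      isClosed' := isClosed_univ }
  let l' := l.map (IrreducibleCloseds.map g hg.continuous)
    (IrreducibleCloseds.map_strictMono_of_isInducing hg)
  have hlt' : l'.last < top := by
    refine lt_of_le_of_ne (fun _ _ => trivial) fun e => ?_
    have h1 : (⟨x, subset_closure rfl⟩ : closure ({x} : Set X)) ∈ l'.last := by rw [e]; trivial
    simp only [l', LTSeries.last_map] at h1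
    have h2 : (⟨x, subset_closure rfl⟩ : closure ({x} : Set X)) ∈
        (Subtype.val ⁻¹' C : Set (closure ({x} : Set X))) := by
      refine closure_minimal ?_ (hC.preimage continuous_subtype_val) h1
      rintro _ ⟨z, -, rfl⟩
      exact z.2
    exact hx h2
  have h3 : ((r + 1 : ℕ) : WithBot ℕ∞) ≤ topologicalKrullDim ↥(closure ({x} : Set X)) :=
    Order.le_krullDim_iff.mpr ⟨l'.snoc top hlt', by simp [l', hl]⟩
  exact absurd (Nat.cast_le.mp (h3.trans hr)) (by omega)

variable [IsNoetherian X]

/-- On the graded pieces of the dimension filtration, tensoring by a bundle multiplies by its rank. -/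
theorem tensor_sub_rank_mem (E : X.Modules) (e : ℕ) (hE : FlatMod.IsFinLocFreeOfRank e E)
    (F : X.Modules) (hF : Coh.IsCoh F) (r : ℕ) (hr : topologicalKrullDim ↥(CohB1.support F) ≤ r) :
    KZero.clSub (fun M : X.Modules => Coh.IsCoh M) ((Euler.tF E).obj F) -
        e • KZero.clSub (fun M : X.Modules => Coh.IsCoh M) F ∈
      AddSubgroup.closure {c : KZero.K0sub (fun M : X.Modules => Coh.IsCoh M) |
        ∃ G : X.Modules, Coh.IsCoh G ∧ topologicalKrullDim ↥(CohB1.support G) < r ∧
          c = KZero.clSub (fun M : X.Modules => Coh.IsCoh M) G} := by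
  set P : ObjectProperty X.Modules := fun M : X.Modules => Coh.IsCoh M
  set H := AddSubgroup.closure {c : KZero.K0sub P |
        ∃ G : X.Modules, Coh.IsCoh G ∧ topologicalKrullDim ↥(CohB1.support G) < r ∧ c = KZero.clSub P G}
  have hlf : FlatMod.IsFinLocFree E := fun x => by
    obtain ⟨W, hW, hi⟩ := hE x
    exact ⟨W, e, hW, hi⟩
  suffices h : CohB1.support F ⊆ K0Sub.dimLE X r ∧
      KZero.clSub P ((Euler.tF E).obj F) - e • KZero.clSub P F ∈ H from h.2
  refine GrothLib.QCoh.devissage (fun M => CohB1.support M ⊆ K0Sub.dimLE X r ∧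
      KZero.clSub P ((Euler.tF E).obj M) - e • KZero.clSub P M ∈ H) ?_ ?_ ?_ (K0Sub.dimLE X r) ?_ F hF
      (K0Sub.support_subset_dimLE hF hr)
  · rintro M N ⟨i⟩ ⟨h1, h2⟩
    refine ⟨(QCoh.support_eq_of_iso i) ▸ h1, ?_⟩
    rwa [← K0Sub.clSub_coh_iso i, ← K0Sub.clSub_coh_iso ((Euler.tF E).mapIso i)]
  · intro M hM
    refine ⟨by simp [K0Sub.support_eq_empty_of_isZero hM], ?_⟩
    rw [K0Sub.clSub_isZero hM, K0Sub.clSub_isZero ((Euler.tF E).map_isZero hM), smul_zero, sub_zero]
    exact zero_mem _
  · intro S hS h1 h2 h3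
    have ea := K0Sub.clSub_add (P := P) hS h1 h2 h3
    have eb : KZero.clSub P ((Euler.tF E).obj S.X₂) =
        KZero.clSub P ((Euler.tF E).obj S.X₁) + KZero.clSub P ((Euler.tF E).obj S.X₃) :=
      K0Sub.clSub_add (P := P) (OX.tensor_map_shortExact (OX.flat_of_isFinLocFree hlf) hS)
        (Euler.isCoh_tF h1 hlf) (Euler.isCoh_tF h2 hlf) (Euler.isCoh_tF h3 hlf)
    haveI := hS.mono_f
    haveI := hS.epi_g
    have key : KZero.clSub P ((Euler.tF E).obj S.X₂) - e • KZero.clSub P S.X₂ =
          (KZero.clSub P ((Euler.tF E).obj S.X₁) - e • KZero.clSub P S.X₁) +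
          (KZero.clSub P ((Euler.tF E).obj S.X₃) - e • KZero.clSub P S.X₃) := by
      rw [ea, eb, smul_add]
      abel
    refine ⟨fun a b => ⟨(QCoh.support_subset_of_epi S.g).trans b.1, ?_⟩,
      fun a c => ⟨(QCoh.support_subset_union hS).trans (Set.union_subset a.1 c.1), ?_⟩,
      fun b c => ⟨(QCoh.support_subset_of_mono S.f).trans b.1, ?_⟩⟩
    · rw [eq_sub_of_add_eq' key.symm]; exact sub_mem b.2 a.2
    · rw [key]; exact add_mem a.2 c.2
    · rw [eq_sub_of_add_eq key.symm]; exact sub_mem b.2 c.2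
  · intro Z i _ _ hi
    obtain ⟨hc, hs, hst⟩ := K0Sub.closureSheaf_data (i (genericPoint Z))
    have hr' := QCoh.closure_singleton_eq_range i
    refine ⟨_, hc, hr' ▸ hs, hst, hs.trans (hr'.le.trans hi), ?_⟩
    set x := i (genericPoint Z)
    obtain ⟨U, hxU, ⟨ei⟩⟩ := hE x
    have m := K0Sub.rank_tensor_sub_mem U hE ei hc hs
    refine (AddSubgroup.closure_le H).2 ?_ m
    rintro _ ⟨M, hM, hMs, rfl⟩
    refine AddSubgroup.subset_closure ⟨M, hM, ?_, rfl⟩
    exact dim_lt_of_subset_closure (QCoh.isClosed_support_of_isCoh hM) (hMs.trans Set.inter_subset_left)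
      (fun h => (hMs h).2 hxU) r (hi ⟨_, rfl⟩)

end GrothLib.K0Rank22
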